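import Groth.Agent.PushDense13.Core
import Groth.Agent.AlgSpDec.EtPoint
import Mathlib.Topology.Sober
import Mathlib.Topology.Inseparable

/-!
# The point of a chart lying under an element of a fibre functor
-/

set_option autoImplicit false
set_option backward.isDefEq.respectTransparency false
set_option backward.isDefEq.respectTransparency.types false

noncomputable section

universe u

open CategoryTheory CategoryTheory.Limits AlgebraicGeometry Opposite AlgSp Topology TopologicalSpace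
open Groth.Agent.AlgSpDec

namespace Groth.Agent.PointTopos13

variable {S : Scheme.{u}} {X : Sp S} (P : GrothendieckTopology.Point.{u} (etTop X))

/-- Elements of the fibre functor. -/
abbrev El : Type (u + 1) := P.fiber.Elements

variable {P}

/-- An element lifts to an open. -/
def Good (e : El P) (O : e.1.obj.left.left.Opens) : Prop :=
  ∃ (e' : El P) (a : e' ⟶ e), Set.range a.val.hom.left.left ⊆ O

theorem good_top (e : El P) : Good e ⊤ := ⟨e, 𝟙 e, Set.subset_univ _⟩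

theorem good_mono {e : El P} {O O' : e.1.obj.left.left.Opens} (h : O ≤ O') (hO : Good e O) : Good e O' :=
  let ⟨e', a, ha⟩ := hO
  ⟨e', a, ha.trans h⟩

theorem good_inf {e : El P} {O O' : e.1.obj.left.left.Opens} (hO : Good e O) (hO' : Good e O') :
    Good e (O ⊓ O') := by
  obtain ⟨e₁, a₁, h₁⟩ := hO
  obtain ⟨e₂, a₂, h₂⟩ := hO'
  obtain ⟨T, b₁, b₂, hb⟩ := IsCofiltered.cospan a₁ a₂
  refine ⟨T, b₁ ≫ a₁, ?_⟩
  rintro _ ⟨t, rfl⟩
  refine ⟨h₁ ⟨b₁.val.hom.left.left t, (Scheme.Hom.comp_apply _ _ t).symm⟩, ?_⟩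
  rw [hb]
  exact h₂ ⟨b₂.val.hom.left.left t, (Scheme.Hom.comp_apply _ _ t).symm⟩

theorem exists_good_of_sSup {e : El P} {s : Set e.1.obj.left.left.Opens} (h : Good e (sSup s)) :
    ∃ O ∈ s, Good e O := by
  obtain ⟨e', a, ha⟩ := h
  let W : s → e'.1.obj.left.left.Opens := fun O => a.val.hom.left.left ⁻¹ᵁ O.1
  have hcov : ∀ x, ∃ O : s, x ∈ Set.range (etOpenι e'.1 (W O)).hom.left.left := fun x => by
    obtain ⟨O, hO, hx⟩ := Opens.mem_sSup.1 (ha ⟨x, rfl⟩)
    exact ⟨⟨O, hO⟩, (range_etOpenι e'.1 _).symm.subset hx⟩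
  obtain ⟨Y, g, ⟨Z, h', _, ⟨O⟩, rfl⟩, y, hy⟩ :=
    P.jointly_surjective _ (AlgSpDec.ofArrows_mem_etTop _ _ hcov) e'.2
  refine ⟨O.1, O.2, ⟨_, y⟩, CategoryOfElements.homMk ⟨_, y⟩ e' _ hy ≫ a, ?_⟩
  rintro _ ⟨t, rfl⟩
  exact (range_etOpenι e'.1 (W O)).subset ⟨h'.hom.left.left t, (Scheme.Hom.comp_apply _ _ t).symm⟩

/-- The largest open to which an element does not lift. -/
def bad (e : El P) : e.1.obj.left.left.Opens := sSup {O | ¬ Good e O}

theorem not_good_bad (e : El P) : ¬ Good e (bad e) := fun h =>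
  let ⟨_, h₁, h₂⟩ := exists_good_of_sSup h
  h₁ h₂

theorem good_iff_meets (e : El P) (O : e.1.obj.left.left.Opens) :
    Good e O ↔ ((bad e : Set ↥e.1.obj.left.left)ᶜ ∩ O).Nonempty := by
  constructor
  · intro h
    by_contra hn
    exact not_good_bad e (good_mono (fun x hx => by_contra fun hx' => hn ⟨x, hx', hx⟩) h)
  · rintro ⟨x, hx, hxO⟩
    by_contra hn
    exact hx (Opens.mem_sSup.2 ⟨O, hn, hxO⟩)

theorem isIrreducible_compl_bad (e : El P) : IsIrreducible (bad e : Set ↥e.1.obj.left.left)ᶜ := by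
  refine ⟨?_, fun u v hu hv h₁ h₂ => ?_⟩
  · obtain ⟨x, hx, -⟩ := (good_iff_meets e ⊤).1 (good_top e)
    exact ⟨x, hx⟩
  · exact (good_iff_meets e (⟨u, hu⟩ ⊓ ⟨v, hv⟩)).1
      (good_inf ((good_iff_meets e ⟨u, hu⟩).2 h₁) ((good_iff_meets e ⟨v, hv⟩).2 h₂))

/-- The point under an element. -/
def pt (e : El P) : ↥e.1.obj.left.left := (isIrreducible_compl_bad e).genericPoint

theorem pt_mem_iff (e : El P) (O : e.1.obj.left.left.Opens) : pt e ∈ O ↔ Good e O := by
  rw [good_iff_meets]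
  have hg : IsGenericPoint (pt e) (bad e : Set ↥e.1.obj.left.left)ᶜ :=
    (isIrreducible_compl_bad e).isGenericPoint_genericPoint (bad e).isOpen.isClosed_compl
  exact (hg.mem_open_set_iff O.isOpen).trans (by rw [Set.inter_comm])

theorem pt_map {e' e : El P} (a : e' ⟶ e) : a.val.hom.left.left (pt e') = pt e := by
  refine (inseparable_iff_forall_isOpen.2 fun U hU => ?_).eq
  change pt e' ∈ a.val.hom.left.left ⁻¹ᵁ ⟨U, hU⟩ ↔ pt e ∈ (⟨U, hU⟩ : e.1.obj.left.left.Opens)
  rw [pt_mem_iff, pt_mem_iff]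
  constructor
  · rintro ⟨T, b, hb⟩
    refine ⟨T, b ≫ a, ?_⟩
    rintro _ ⟨t, rfl⟩
    exact Set.mem_of_eq_of_mem (Scheme.Hom.comp_apply b.val.hom.left.left a.val.hom.left.left t)
      (hb ⟨t, rfl⟩)
  · rintro ⟨T, b, hb⟩
    obtain ⟨T', c, d, hcd⟩ := IsCofiltered.cospan a b
    refine ⟨T', c, ?_⟩
    rintro _ ⟨t, rfl⟩
    change a.val.hom.left.left (c.val.hom.left.left t) ∈ U
    refine Set.mem_of_eq_of_mem ?_ (hb ⟨d.val.hom.left.left t, rfl⟩)
    exact ((Scheme.Hom.comp_apply _ _ t).symm.trans (congrArg (fun j : T' ⟶ e => j.val.hom.left.left t) hcd)).trans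
      (Scheme.Hom.comp_apply _ _ t)

/-- An element lifts to any open containing its point. -/
theorem exists_lift_open {e : El P} {O : e.1.obj.left.left.Opens} (h : pt e ∈ O) :
    ∃ (y : P.fiber.obj (etOpen e.1 O)), P.fiber.map (etOpenι e.1 O) y = e.2 := by
  obtain ⟨T, a, ha⟩ := (pt_mem_iff e O).1 h
  let ι := etOpenι e.1 O
  haveI : IsOpenImmersion ι.hom.left.left := inferInstanceAs (IsOpenImmersion O.ι)
  have hr : Set.range a.val.hom.left.left ⊆ Set.range ι.hom.left.left :=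
    ha.trans (range_etOpenι e.1 O).symm.subset
  let k : T.1.obj.left ⟶ (etOpen e.1 O).obj.left := Over.homMk (IsOpenImmersion.lift ι.hom.left.left _ hr) (by
    rw [← Over.w ι.hom.left, ← Category.assoc, IsOpenImmersion.lift_fac]
    exact Over.w a.val.hom.left)
  have hk : k ≫ ι.hom.left = a.val.hom.left := Over.OverMorphism.ext (IsOpenImmersion.lift_fac _ _ hr)
  let kk : T.1 ⟶ etOpen e.1 O := EtOver.homMk k (by
    rw [← EtOver.w ι, ← Category.assoc, ← Functor.map_comp, hk]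
    exact EtOver.w a.val)
  refine ⟨P.fiber.map kk T.2, ?_⟩
  rw [← FunctorToTypes.map_comp_apply]
  exact (congrArg (fun j : T.1 ⟶ e.1 => P.fiber.map j T.2) (EtOver.hom_ext (kk ≫ ι) a.val hk)).trans a.property

end Groth.Agent.PointTopos13

end
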