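import Groth.Agent.PointTopos13.Image
import Groth.Agent.EtCount.Basic
import Mathlib.CategoryTheory.CofilteredSystem
import Mathlib.AlgebraicGeometry.Sites.EtalePoint

/-!
# A compatible system of geometric lifts to all elements of a fibre functor
-/

set_option autoImplicit false
set_option backward.isDefEq.respectTransparency false
set_option backward.isDefEq.respectTransparency.types false

noncomputable section

universe u

open CategoryTheory CategoryTheory.Limits AlgebraicGeometry Opposite AlgSp Topology TopologicalSpace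
open Groth.Agent.AlgSpDec

namespace Groth.Agent.PointTopos13

variable {S : Scheme.{u}} {X : Sp S} {P : GrothendieckTopology.Point.{u} (etTop X)}

theorem exists_affine_el : ∃ e : El P, IsAffine e.1.obj.left.left := by
  let e : El P := IsCofiltered.nonempty.some
  obtain ⟨_, ⟨O, hO, rfl⟩, hxO, -⟩ :=
    e.1.obj.left.left.isBasis_affineOpens.exists_subset_of_mem_open (Set.mem_univ (pt e)) isOpen_univ
  obtain ⟨y, -⟩ := exists_lift_open (O := O) hxO
  exact ⟨⟨etOpen e.1 O, y⟩, hO⟩

variable (e₀ : El P)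

/-- An algebraic closure of the residue field of the point under the base element. -/
abbrev Kbar : Type u := AlgebraicClosure (e₀.1.obj.left.left.residueField (pt e₀))

/-- The geometric point on the base element. -/
def bas : Spec (CommRingCat.of (Kbar e₀)) ⟶ e₀.1.obj.left.left :=
  Spec.map (CommRingCat.ofHom (algebraMap (e₀.1.obj.left.left.residueField (pt e₀)) (Kbar e₀))) ≫
    e₀.1.obj.left.left.fromSpecResidueField (pt e₀)

theorem bas_apply (z : Spec (CommRingCat.of (Kbar e₀))) : bas e₀ z = pt e₀ := by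
  exact (Scheme.Hom.comp_apply _ _ z).trans (Scheme.fromSpecResidueField_apply _ _)

/-- The geometric point as a scheme over the base. -/
abbrev geoPt : Over S := Over.mk (bas e₀ ≫ e₀.1.obj.left.hom)

/-- The tautological lift to the base element. -/
def basOver : geoPt e₀ ⟶ e₀.1.obj.left := Over.homMk (bas e₀) rfl

/-- The geometric point of the space. -/
def fieldPt : FieldPt X where
  K := Kbar e₀
  str := bas e₀ ≫ e₀.1.obj.left.hom
  val := (J S).uliftYonedaEquiv ((yon S).map (basOver e₀) ≫ e₀.1.obj.hom)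

theorem isGeometric_fieldPt : (fieldPt e₀).IsGeometric := inferInstanceAs (IsAlgClosed (Kbar e₀))

theorem toHom_fieldPt : (fieldPt e₀).toHom = (yon S).map (basOver e₀) ≫ e₀.1.obj.hom :=
  Equiv.symm_apply_apply _ _

/-- The point of the geometric point. -/
abbrev cp : ↥(geoPt e₀).left := IsLocalRing.closedPoint (Kbar e₀)

/-- Lifts of the geometric point to an element over the base element, above its point. -/
abbrev Lift (j : Over e₀) : Type u :=
  {l : geoPt e₀ ⟶ j.left.1.obj.left //
    l ≫ j.hom.val.hom.left = basOver e₀ ∧ l.left (cp e₀) = pt j.left}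

/-- The system of lifts. -/
def liftFunctor : Over e₀ ⥤ Type u where
  obj j := Lift e₀ j
  map {j j'} a := ↾fun l => ⟨l.1 ≫ a.left.val.hom.left, by
    refine ⟨?_, ?_⟩
    · rw [Category.assoc]
      exact (congrArg (fun k : j.left ⟶ e₀ => l.1 ≫ k.val.hom.left) (Over.w a)).trans l.2.1
    · change (l.1.left ≫ a.left.val.hom.left.left) (cp e₀) = _
      exact (Scheme.Hom.comp_apply _ _ _).trans ((congrArg a.left.val.hom.left.left l.2.2).trans (pt_map _))⟩
  map_id j := by ext l; exact congrArg CommaMorphism.left (Category.comp_id l.1)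
  map_comp a b := by ext l; exact congrArg CommaMorphism.left (Category.assoc l.1 _ _).symm

theorem nonempty_lift (j : Over e₀) : Nonempty (Lift e₀ j) := by
  haveI := EtOver.etale_left j.hom.val
  obtain ⟨l, hl, hlx⟩ := Scheme.exists_fac_of_etale_of_isSepClosed j.hom.val.hom.left.left (bas e₀) (pt j.left)
    ((pt_map j.hom).trans (bas_apply e₀ _).symm)
  refine ⟨⟨Over.homMk l ?_, Over.OverMorphism.ext hl, (congrArg l (Subsingleton.elim (α := ↥(Spec (CommRingCat.of (Kbar e₀)))) (cp e₀) default)).trans hlx⟩⟩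
  rw [← Over.w j.hom.val.hom.left, ← Category.assoc, hl]
  rfl

theorem finite_lift [IsAffine e₀.1.obj.left.left] (j : Over e₀) : Finite (Lift e₀ j) := by
  haveI := EtOver.etale_left j.hom.val
  obtain ⟨_, ⟨O, hO, rfl⟩, hxO, -⟩ :=
    j.left.1.obj.left.left.isBasis_affineOpens.exists_subset_of_mem_open (Set.mem_univ (pt j.left)) isOpen_univ
  haveI : IsAffine (Scheme.Opens.toScheme O) := hO
  let g : Scheme.Opens.toScheme O ⟶ e₀.1.obj.left.left := Scheme.Opens.ι O ≫ j.hom.val.hom.left.left
  haveI : QuasiCompact g := inferInstance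
  haveI : Finite (EtCount.Lifts g (bas e₀)) := by
    have h := EtCount.card_lifts_of_point g (bas e₀)
    haveI := EtCount.finite_geomFiber g ((bas e₀) (IsLocalRing.closedPoint (Kbar e₀)))
    rw [← ENat.card_lt_top, h, ENat.card_lt_top]
    infer_instance
  have hin : ∀ l : Lift e₀ j, Set.range l.1.left ⊆ Set.range (Scheme.Opens.ι O) := fun l => by
    rintro _ ⟨z, rfl⟩
    rw [Scheme.Opens.range_ι, Subsingleton.elim (α := ↥(Spec (CommRingCat.of (Kbar e₀)))) z (cp e₀), l.2.2]
    exact hxO
  refine Finite.of_injective (fun l : Lift e₀ j => (⟨IsOpenImmersion.lift (Scheme.Opens.ι O) l.1.left (hin l), by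
    rw [← Category.assoc, IsOpenImmersion.lift_fac]
    exact congrArg CommaMorphism.left l.2.1⟩ : EtCount.Lifts g (bas e₀))) fun l l' h => Subtype.ext ?_
  refine Over.OverMorphism.ext ?_
  rw [← IsOpenImmersion.lift_fac (Scheme.Opens.ι O) l.1.left (hin l), ← IsOpenImmersion.lift_fac (Scheme.Opens.ι O) l'.1.left (hin l')]
  exact congrArg (· ≫ (Scheme.Opens.ι O)) (congrArg Subtype.val h)

/-- A compatible system of lifts. -/
def Compat : Type (u + 1) :=
  {s : ∀ j : Over e₀, Lift e₀ j //
    ∀ {j j' : Over e₀} (a : j ⟶ j'), (s j).1 ≫ a.left.val.hom.left = (s j').1}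

theorem nonempty_compat [IsAffine e₀.1.obj.left.left] : Nonempty (Compat e₀) := by
  haveI : ∀ j, Finite ((liftFunctor e₀).obj j) := finite_lift e₀
  haveI : ∀ j, Nonempty ((liftFunctor e₀).obj j) := nonempty_lift e₀
  obtain ⟨s, hs⟩ := nonempty_sections_of_finite_cofiltered_system (liftFunctor e₀)
  exact ⟨⟨s, fun a => congrArg Subtype.val (hs a)⟩⟩

variable {e₀} (σ : Compat e₀)

/-- An element over the base element mapping to a given one. -/
def ovr (e : El P) : Over e₀ := Over.mk (IsCofiltered.minToLeft e₀ e)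

/-- The lift of the geometric point to an arbitrary element. -/
def lift (e : El P) : geoPt e₀ ⟶ e.1.obj.left :=
  (σ.1 (ovr e)).1 ≫ (IsCofiltered.minToRight e₀ e).val.hom.left

theorem lift_eq {e : El P} (j : Over e₀) (a : j.left ⟶ e) : lift σ e = (σ.1 j).1 ≫ a.val.hom.left := by
  obtain ⟨T, c, d, h₁⟩ := IsCofiltered.cospan (ovr e).hom j.hom
  let w := IsCofiltered.eqHom (c ≫ IsCofiltered.minToRight e₀ e) (d ≫ a)
  have h₂ : w ≫ c ≫ IsCofiltered.minToRight e₀ e = w ≫ d ≫ a :=
    IsCofiltered.eq_condition (c ≫ IsCofiltered.minToRight e₀ e) (d ≫ a)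
  let T' : Over e₀ := Over.mk (w ≫ c ≫ (ovr e).hom)
  have e₁ := σ.2 (Over.homMk (U := T') (V := ovr e) (w ≫ c) (Category.assoc _ _ _))
  have e₂ := σ.2 (Over.homMk (U := T') (V := j) (w ≫ d)
    ((Category.assoc _ _ _).trans (congrArg (w ≫ ·) h₁.symm)))
  unfold lift
  rw [← e₁, ← e₂, Category.assoc, Category.assoc]
  exact congrArg (fun k : _ ⟶ e => (σ.1 T').1 ≫ k.val.hom.left)
    (((Category.assoc _ _ _).trans h₂).trans (Category.assoc _ _ _).symm)

theorem lift_pt (e : El P) : (lift σ e).left (cp e₀) = pt e := by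
  unfold lift
  rw [Over.comp_left, Scheme.Hom.comp_apply, (σ.1 (ovr e)).2.2]
  exact pt_map _

theorem lift_map {e' e : El P} (a : e' ⟶ e) : lift σ e' ≫ a.val.hom.left = lift σ e := by
  rw [lift_eq σ (ovr e') (IsCofiltered.minToRight e₀ e' ≫ a)]
  exact Category.assoc _ _ _

theorem lift_base : lift σ e₀ = basOver e₀ := by
  rw [lift_eq σ (Over.mk (𝟙 e₀)) (𝟙 e₀)]
  exact (σ.1 (Over.mk (𝟙 e₀))).2.1

theorem lift_w (e : El P) : (yon S).map (lift σ e) ≫ e.1.obj.hom = (fieldPt e₀).toHom := by
  unfold lift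
  have h := congrArg (fun k => (yon S).map k ≫ e₀.1.obj.hom) (σ.1 (ovr e)).2.1
  simp only [Functor.map_comp, Category.assoc, EtOver.w] at h
  rw [Functor.map_comp, Category.assoc, EtOver.w, toHom_fieldPt]
  exact h

/-- The comparison of the fibre functor with the lifts of the geometric point. -/
def comparison : P.fiber ⟶ FieldPt.liftsTo (fieldPt e₀) where
  app E := ↾fun x => ⟨lift σ ⟨E, x⟩, lift_w σ ⟨E, x⟩⟩
  naturality E E' g := by
    ext x
    exact Subtype.ext
      (lift_map σ (CategoryOfElements.homMk ⟨E, x⟩ ⟨E', P.fiber.map g x⟩ g rfl)).symm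

end Groth.Agent.PointTopos13

end
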