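import Groth.Agent.PointTopos13.Lifts
import Mathlib.CategoryTheory.Sites.Point.Category

/-!
# Points of the small etale topos of an algebraic space are geometric points
-/

set_option autoImplicit false
set_option backward.isDefEq.respectTransparency false
set_option backward.isDefEq.respectTransparency.types false

noncomputable section

universe u

open CategoryTheory CategoryTheory.Limits AlgebraicGeometry Opposite AlgSp Topology TopologicalSpace
open Groth.Agent.AlgSpDec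

namespace Groth.Agent.PointTopos13

variable {S : Scheme.{u}} {X : Sp S} {P : GrothendieckTopology.Point.{u} (etTop X)} {e₀ : El P}
  (σ : Compat e₀)

theorem comparison_injective (E : EtOver X) : Function.Injective ((comparison σ).app E) := by
  intro x₁ x₂ h
  have hm : lift σ ⟨E, x₁⟩ = lift σ ⟨E, x₂⟩ := congrArg Subtype.val h
  let e₁ : El P := ⟨E, x₁⟩
  let e₂ : El P := ⟨E, x₂⟩
  let a₁ := IsCofiltered.minToLeft e₁ e₂
  let a₂ := IsCofiltered.minToRight e₁ e₂
  obtain ⟨π, hπ₁, hπ₂⟩ := BinaryFan.IsLimit.lift' (EtOver.prodIsLimit E E) a₁.val a₂.val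
  obtain ⟨Δ, hΔ₁, hΔ₂⟩ := BinaryFan.IsLimit.lift' (EtOver.prodIsLimit E E) (𝟙 E) (𝟙 E)
  let q : El P := ⟨EtOver.prodObj E E, P.fiber.map π (IsCofiltered.min e₁ e₂).2⟩
  let f₁ : q ⟶ e₁ := CategoryOfElements.homMk q e₁ (EtOver.prodFst E E) (by
    change P.fiber.map (EtOver.prodFst E E) (P.fiber.map π _) = x₁
    exact (FunctorToTypes.map_comp_apply _ _ _ _).symm.trans
      ((congrArg (fun k => P.fiber.map k _) hπ₁).trans a₁.property))
  let f₂ : q ⟶ e₂ := CategoryOfElements.homMk q e₂ (EtOver.prodSnd E E) (by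
    change P.fiber.map (EtOver.prodSnd E E) (P.fiber.map π _) = x₂
    exact (FunctorToTypes.map_comp_apply _ _ _ _).symm.trans
      ((congrArg (fun k => P.fiber.map k _) hπ₂).trans a₂.property))
  have hq : lift σ q = lift σ e₁ ≫ Δ.hom.left := by
    refine E.property.1.hom_ext' ?_ ?_
    · rw [Category.assoc]
      exact (lift_map σ f₂).trans (hm.symm.trans ((Category.comp_id _).symm.trans
        (congrArg (fun k : E ⟶ E => lift σ e₁ ≫ k.hom.left) hΔ₂.symm)))
    · rw [Category.assoc]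
      exact (lift_map σ f₁).trans ((Category.comp_id _).symm.trans
        (congrArg (fun k : E ⟶ E => lift σ e₁ ≫ k.hom.left) hΔ₁.symm))
  let O : (EtOver.prodObj E E).obj.left.left.Opens :=
    ⟨Set.range Δ.hom.left.left, (PushDense13.isOpenMap_hom Δ).isOpen_range⟩
  have hO : pt q ∈ O := by
    rw [← lift_pt σ q, hq]
    exact ⟨_, (Scheme.Hom.comp_apply _ _ _).symm⟩
  obtain ⟨y, hy⟩ := exists_lift_open (e := q) (O := O) hO
  obtain ⟨m, hm'⟩ := PushDense13.exists_comp_eq_of_range Δ _ hΔ₁ (etOpenι (EtOver.prodObj E E) O)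
    (range_etOpenι _ O).subset
  have hv : P.fiber.map Δ (P.fiber.map m y) = q.2 := by
    rw [← FunctorToTypes.map_comp_apply, hm']
    exact hy
  have h₁ : x₁ = P.fiber.map m y := by
    have h : P.fiber.map (EtOver.prodFst E E) q.2 = x₁ := f₁.property
    rw [← hv] at h
    refine h.symm.trans ((FunctorToTypes.map_comp_apply _ _ _ _).symm.trans ((congrArg (fun k : E ⟶ E => P.fiber.map k (P.fiber.map m y)) hΔ₁).trans ?_))
    exact FunctorToTypes.map_id_apply _ _
  have h₂ : x₂ = P.fiber.map m y := by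
    have h : P.fiber.map (EtOver.prodSnd E E) q.2 = x₂ := f₂.property
    rw [← hv] at h
    refine h.symm.trans ((FunctorToTypes.map_comp_apply _ _ _ _).symm.trans ((congrArg (fun k : E ⟶ E => P.fiber.map k (P.fiber.map m y)) hΔ₂).trans ?_))
    exact FunctorToTypes.map_id_apply _ _
  exact h₁.trans h₂.symm

/-- A lift through a chart over the base element is realised by the fibre functor. -/
theorem exists_realised [IsAffine e₀.1.obj.left.left] {V : EtOver X} [IsAffine V.obj.left.left]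
    (a : V ⟶ e₀.1) (ν : geoPt e₀ ⟶ V.obj.left) (hν : ν ≫ a.hom.left = basOver e₀) :
    ∃ (j : Over e₀) (k : j.left.1 ⟶ V), k ≫ a = j.hom.val ∧ (σ.1 j).1 ≫ k.hom.left = ν := by
  classical
  by_contra hnot
  push Not at hnot
  haveI := EtOver.etale_left a
  let Φ := {l : geoPt e₀ ⟶ V.obj.left //
    ∃ (j : Over e₀) (k : j.left.1 ⟶ V), k ≫ a = j.hom.val ∧ (σ.1 j).1 ≫ k.hom.left = l}
  haveI : Finite Φ := by
    haveI : Finite (EtCount.Lifts a.hom.left.left (bas e₀)) := by
      haveI := EtCount.finite_geomFiber a.hom.left.left ((bas e₀) (IsLocalRing.closedPoint (Kbar e₀)))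
      rw [← ENat.card_lt_top, EtCount.card_lifts_of_point a.hom.left.left (bas e₀), ENat.card_lt_top]
      infer_instance
    refine Finite.of_injective (fun l : Φ => (⟨l.1.left, by
      obtain ⟨j, k, hk, hl⟩ := l.2
      rw [← hl]
      have h : ((σ.1 j).1 ≫ k.hom.left) ≫ a.hom.left = basOver e₀ := by
        rw [Category.assoc]
        exact (congrArg (fun i : j.left.1 ⟶ e₀.1 => (σ.1 j).1 ≫ i.hom.left) hk).trans (σ.1 j).2.1
      exact congrArg CommaMorphism.left h⟩ : EtCount.Lifts a.hom.left.left (bas e₀)))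
      fun l l' h => Subtype.ext (Over.OverMorphism.ext (congrArg Subtype.val h))
  haveI : Fintype Φ := Fintype.ofFinite _
  choose jf kf hkf hlf using fun l : Φ => l.2
  obtain ⟨j₀, hj₀⟩ := IsCofiltered.inf_objs_exists (Finset.univ.image jf)
  have ga : ∀ l : Φ, Nonempty (j₀ ⟶ jf l) := fun l => hj₀ (Finset.mem_image.2 ⟨l, Finset.mem_univ _, rfl⟩)
  let g : ∀ l : Φ, j₀ ⟶ jf l := fun l => (ga l).some
  let Q := EtOver.pullbackObj j₀.hom.val a
  let π₁ := EtOver.pullbackFst j₀.hom.val a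
  let π₂ := EtOver.pullbackSnd j₀.hom.val a
  have hQ : π₁ ≫ j₀.hom.val = π₂ ≫ a := EtOver.pullback_condition _ _
  haveI : IsSeparated π₁.hom.left.left := by
    have sq := ((IsPullback.of_hasPullback j₀.hom.val.hom.left a.hom.left).map (CategoryTheory.Over.forget S))
    haveI hsep : IsSeparated a.hom.left.left := inferInstance
    exact MorphismProperty.of_isPullback (P := @IsSeparated) sq.flip hsep
  have hsec : ∀ l : Φ, (𝟙 j₀.left.1) ≫ j₀.hom.val = ((g l).left.val ≫ kf l) ≫ a := fun l => by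
    rw [Category.id_comp, Category.assoc, hkf l]
    exact (congrArg Subtype.val (Over.w (g l))).symm
  let s : Φ → (j₀.left.1 ⟶ Q) := fun l =>
    PullbackCone.IsLimit.lift (EtOver.pullbackIsLimit _ _) _ _ (hsec l)
  have hs₁ : ∀ l, s l ≫ π₁ = 𝟙 _ := fun l => PullbackCone.IsLimit.lift_fst _ _ _ _
  have hs₂ : ∀ l, s l ≫ π₂ = (g l).left.val ≫ kf l := fun l => PullbackCone.IsLimit.lift_snd _ _ _ _
  have hclosed : ∀ l, IsClosed (Set.range (s l).hom.left.left) := fun l => by
    haveI : IsClosedImmersion ((s l).hom.left.left ≫ π₁.hom.left.left) := by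
      rw [show (s l).hom.left.left ≫ π₁.hom.left.left = 𝟙 _ from
        congrArg (fun i : j₀.left.1 ⟶ j₀.left.1 => i.hom.left.left) (hs₁ l)]
      infer_instance
    haveI := IsClosedImmersion.of_comp (s l).hom.left.left π₁.hom.left.left
    exact (s l).hom.left.left.isClosedEmbedding.isClosed_range
  let Oc : Q.obj.left.left.Opens :=
    ⟨(⋃ l, Set.range (s l).hom.left.left)ᶜ, (isClosed_iUnion_of_finite hclosed).isOpen_compl⟩
  -- the point of the fibre product
  let ρ : geoPt e₀ ⟶ Q.obj.left := pullback.lift (σ.1 j₀).1 ν ((σ.1 j₀).2.1.trans hν.symm)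
  have hρ₁ : ρ ≫ π₁.hom.left = (σ.1 j₀).1 := pullback.lift_fst _ _ _
  have hρ₂ : ρ ≫ π₂.hom.left = ν := pullback.lift_snd _ _ _
  have hρ : ρ.left (cp e₀) ∈ Oc := by
    intro hmem
    obtain ⟨l, hl⟩ := Set.mem_iUnion.1 hmem
    haveI := EtOver.etale_left (s l)
    haveI : IsOpenImmersion (s l).hom.left.left := by
      haveI : Mono (s l).hom.left.left := @SplitMono.mono _ _ _ _ _
        ⟨π₁.hom.left.left, congrArg (fun i : j₀.left.1 ⟶ j₀.left.1 => i.hom.left.left) (hs₁ l)⟩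
      exact IsOpenImmersion.of_flat_of_mono _
    have hr : Set.range ρ.left ⊆ Set.range (s l).hom.left.left := by
      rintro _ ⟨z, rfl⟩
      rw [Subsingleton.elim (α := ↥(Spec (CommRingCat.of (Kbar e₀)))) z (cp e₀)]
      exact hl
    have e : ρ = (σ.1 j₀).1 ≫ (s l).hom.left := by
      apply Over.OverMorphism.ext
      have h1 := IsOpenImmersion.lift_fac (s l).hom.left.left ρ.left hr
      have h2 : (s l).hom.left.left ≫ π₁.hom.left.left = 𝟙 _ :=
        congrArg (fun i : j₀.left.1 ⟶ j₀.left.1 => i.hom.left.left) (hs₁ l)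
      rw [← hρ₁, Over.comp_left, Over.comp_left, ← h1, Category.assoc _ _ π₁.hom.left.left, h2,
        Category.comp_id]
    apply hnot (jf l) (kf l) (hkf l)
    rw [← hρ₂, e, Category.assoc]
    have h3 := congrArg (fun i : j₀.left.1 ⟶ V => (σ.1 j₀).1 ≫ i.hom.left) (hs₂ l)
    refine Eq.trans ?_ h3.symm
    exact (congrArg (· ≫ (kf l).hom.left) (σ.2 (g l)).symm).trans (Category.assoc _ _ _)
  -- lift the element into the open
  let O₁ : j₀.left.1.obj.left.left.Opens :=
    ⟨π₁.hom.left.left '' Oc, (PushDense13.isOpenMap_hom π₁) _ Oc.isOpen⟩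
  have hpt : pt j₀.left ∈ O₁ := by
    refine ⟨_, hρ, ?_⟩
    refine (Scheme.Hom.comp_apply _ _ _).symm.trans ?_
    exact (congrArg (fun i : geoPt e₀ ⟶ j₀.left.1.obj.left => i.left (cp e₀)) hρ₁).trans (σ.1 j₀).2.2
  obtain ⟨y, hy⟩ := exists_lift_open hpt
  let ι₁ := etOpenι j₀.left.1 O₁
  let ιc := etOpenι Q Oc
  let W := EtOver.pullbackObj ι₁ (ιc ≫ π₁)
  have hcov : ∀ x, ∃ _i : PUnit.{1}, x ∈ Set.range (EtOver.pullbackFst ι₁ (ιc ≫ π₁)).hom.left.left := fun x => by
    obtain ⟨w, hw, hwx⟩ := (range_etOpenι j₀.left.1 O₁).subset ⟨x, rfl⟩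
    obtain ⟨w', rfl⟩ := (range_etOpenι Q Oc).symm.subset hw
    have sq := ((IsPullback.of_hasPullback ι₁.hom.left (ιc ≫ π₁).hom.left).map (CategoryTheory.Over.forget S))
    obtain ⟨z, hz, -⟩ := Scheme.Pullback.exists_preimage_pullback (f := ι₁.hom.left.left)
      (g := (ιc ≫ π₁).hom.left.left) x w' (hwx.symm.trans (Scheme.Hom.comp_apply _ _ w').symm)
    exact ⟨⟨⟩, sq.isoPullback.inv z, (Scheme.Hom.comp_apply _ _ z).symm.trans
      ((congrArg (fun i : pullback ι₁.hom.left.left (ιc ≫ π₁).hom.left.left ⟶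
        (etOpen j₀.left.1 O₁).obj.left.left => i z) sq.isoPullback_inv_fst).trans hz)⟩
  obtain ⟨Y, c, ⟨Z, h', _, ⟨i⟩, rfl⟩, w, hw⟩ :=
    P.jointly_surjective _ (AlgSpDec.ofArrows_mem_etTop (fun _ : PUnit.{1} => W) _ hcov) y
  let wW : El P := ⟨W, P.fiber.map h' w⟩
  let d : W ⟶ Q := EtOver.pullbackSnd ι₁ (ιc ≫ π₁) ≫ ιc
  have hd : d ≫ π₁ = EtOver.pullbackFst ι₁ (ιc ≫ π₁) ≫ ι₁ := by
    rw [Category.assoc]; exact (EtOver.pullback_condition _ _).symm
  let b : wW ⟶ j₀.left := CategoryOfElements.homMk wW j₀.left (d ≫ π₁) (by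
    rw [hd, FunctorToTypes.map_comp_apply]
    refine (congrArg (P.fiber.map ι₁) ?_).trans hy
    rw [← hw, FunctorToTypes.map_comp_apply])
  let j₁ : Over e₀ := Over.mk (b ≫ j₀.hom)
  have hk₁ : (d ≫ π₂) ≫ a = j₁.hom.val := by
    change _ = (d ≫ π₁) ≫ j₀.hom.val
    exact (Category.assoc _ _ _).trans ((congrArg (d ≫ ·) hQ).symm.trans (Category.assoc _ _ _).symm)
  let l₁ : Φ := ⟨(σ.1 j₁).1 ≫ (d ≫ π₂).hom.left, j₁, d ≫ π₂, hk₁, rfl⟩
  have hb := σ.2 (Over.homMk (U := j₁) (V := j₀) b rfl)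
  have e₁ : (σ.1 j₁).1 ≫ d.hom.left = (σ.1 j₀).1 ≫ (s l₁).hom.left := by
    apply pullback.hom_ext
    · rw [Category.assoc, Category.assoc]
      refine Eq.trans ?_ ((Category.comp_id _).symm.trans
        (congrArg (fun i : j₀.left.1 ⟶ j₀.left.1 => (σ.1 j₀).1 ≫ i.hom.left) (hs₁ l₁).symm))
      exact hb
    · rw [Category.assoc, Category.assoc]
      refine Eq.trans ?_ (congrArg (fun i : j₀.left.1 ⟶ V => (σ.1 j₀).1 ≫ i.hom.left) (hs₂ l₁).symm)
      refine Eq.trans ?_ ((congrArg (· ≫ (kf l₁).hom.left) (σ.2 (g l₁)).symm).trans (Category.assoc _ _ _))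
      exact (hlf l₁).symm
  have h1 : ((σ.1 j₁).1 ≫ d.hom.left).left (cp e₀) ∈ Oc :=
    (range_etOpenι Q Oc).subset
      ⟨(EtOver.pullbackSnd ι₁ (ιc ≫ π₁)).hom.left.left ((σ.1 j₁).1.left (cp e₀)),
        (Scheme.Hom.comp_apply _ _ _).symm.trans (Scheme.Hom.comp_apply _ _ _).symm⟩
  rw [e₁] at h1
  exact h1 (Set.mem_iUnion.2 ⟨l₁, _, (Scheme.Hom.comp_apply _ _ _).symm⟩)

theorem comparison_surjective [IsAffine e₀.1.obj.left.left] (E : EtOver X) :
    Function.Surjective ((comparison σ).app E) := by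
  rintro ⟨μ, hμ⟩
  have hμ' : (yon S).map μ ≫ E.obj.hom = (yon S).map (basOver e₀) ≫ e₀.1.obj.hom :=
    hμ.trans (toHom_fieldPt e₀)
  let π : geoPt e₀ ⟶ (EtOver.prodObj E e₀.1).obj.left := e₀.1.property.1.lift' (basOver e₀) μ hμ'.symm
  have hπ₁ : π ≫ (EtOver.prodFst E e₀.1).hom.left = μ := Functor.relativelyRepresentable.lift'_snd _ _ _ _
  have hπ₂ : π ≫ (EtOver.prodSnd E e₀.1).hom.left = basOver e₀ :=
    Functor.relativelyRepresentable.lift'_fst _ _ _ _
  obtain ⟨_, ⟨O, hO, rfl⟩, hxO, -⟩ :=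
    (EtOver.prodObj E e₀.1).obj.left.left.isBasis_affineOpens.exists_subset_of_mem_open
      (Set.mem_univ (π.left (cp e₀))) isOpen_univ
  haveI : IsAffine (etOpen (EtOver.prodObj E e₀.1) O).obj.left.left := hO
  let ι := etOpenι (EtOver.prodObj E e₀.1) O
  haveI : IsOpenImmersion ι.hom.left.left := inferInstanceAs (IsOpenImmersion (Scheme.Opens.ι O))
  have hr : Set.range π.left ⊆ Set.range ι.hom.left.left := by
    rintro _ ⟨z, rfl⟩
    rw [Subsingleton.elim (α := ↥(Spec (CommRingCat.of (Kbar e₀)))) z (cp e₀)]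
    exact (range_etOpenι _ O).symm.subset hxO
  let ν : geoPt e₀ ⟶ (etOpen (EtOver.prodObj E e₀.1) O).obj.left :=
    Over.homMk (IsOpenImmersion.lift ι.hom.left.left π.left hr) (by
      rw [← Over.w ι.hom.left, ← Category.assoc, IsOpenImmersion.lift_fac]
      exact Over.w π)
  have hν : ν ≫ ι.hom.left = π := Over.OverMorphism.ext (IsOpenImmersion.lift_fac _ _ hr)
  obtain ⟨j, k, -, hk⟩ := exists_realised σ (ι ≫ EtOver.prodSnd E e₀.1) ν (by
    refine (Category.assoc _ _ _).symm.trans ?_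
    rw [hν, hπ₂])
  let m : j.left.1 ⟶ E := k ≫ ι ≫ EtOver.prodFst E e₀.1
  refine ⟨P.fiber.map m j.left.2, Subtype.ext ?_⟩
  refine (lift_eq σ j (CategoryOfElements.homMk j.left ⟨E, P.fiber.map m j.left.2⟩ m rfl)).trans ?_
  change (σ.1 j).1 ≫ k.hom.left ≫ ι.hom.left ≫ (EtOver.prodFst E e₀.1).hom.left = μ
  rw [← Category.assoc, hk, ← Category.assoc, hν, hπ₁]

theorem exists_geometric_point (hX : IsAlgSpace X) (P : GrothendieckTopology.Point.{u} (etTop X)) :
    ∃ p : FieldPt X, p.IsGeometric ∧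
      Nonempty (P.sheafFiber (A := Type (u + 1)) ≅ stalkEtFunctor (Type (u + 1)) p) := by
  obtain ⟨e₀, he₀⟩ := exists_affine_el (P := P)
  obtain ⟨σ⟩ := nonempty_compat e₀
  haveI : HasColimitsOfSize.{u, u} (Type (u + 1)) := hasColimitsOfSizeShrink.{u, u, u + 1, u + 1} _
  refine ⟨fieldPt e₀, isGeometric_fieldPt e₀, ?_⟩
  haveI : ∀ E, IsIso ((comparison σ).app E) := fun E =>
    (isIso_iff_bijective _).2 ⟨comparison_injective σ E, comparison_surjective σ E⟩
  haveI : IsIso (comparison σ) := NatIso.isIso_of_isIso_app _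
  let c := asIso (comparison σ)
  let Φ := EtPoint.point hX (fieldPt e₀) (isGeometric_fieldPt e₀)
  let f : P ⟶ Φ := ⟨c.inv⟩
  let g : Φ ⟶ P := ⟨c.hom⟩
  exact ⟨{ hom := g.sheafFiber
           inv := f.sheafFiber
           hom_inv_id := by
             rw [← GrothendieckTopology.Point.Hom.sheafFiber_comp,
               show f ≫ g = 𝟙 P from GrothendieckTopology.Point.hom_ext c.hom_inv_id,
               GrothendieckTopology.Point.Hom.sheafFiber_id]
           inv_hom_id := by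
             rw [← GrothendieckTopology.Point.Hom.sheafFiber_comp,
               show g ≫ f = 𝟙 Φ from GrothendieckTopology.Point.hom_ext c.inv_hom_id,
               GrothendieckTopology.Point.Hom.sheafFiber_id]
             rfl }⟩

end Groth.Agent.PointTopos13

end
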